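import Cfsg.Agent.H487.FxOpp
import Cfsg.Agent.H487.FxRed
import Cfsg.Agent.H498.LieFree
import Cfsg.Agent.Mrg.Omega.Lie.KRowsPlug
import Cfsg.Agent.OddHalf.D4.Spor.J1Out
import Cfsg.Agent.S0205

/-!
# Cosets of inner automorphisms of the known simple groups contain elements of even order

`fx_known` : for every automorphism `φ` of a known finite simple group `K`, not of prime order, some element of the
coset `Inn(K) φ` has even order.  Groups of Lie type: some element of the coset swaps two opposite Sylow subgroups.
The others (but `J₁`): an automorphism of odd order normalising a Sylow 2-subgroup `S` fixes the elements of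
`Ω₁ Z(S)`.
-/

set_option autoImplicit false

namespace Cfsg.Agent.H487.EvenCoset

open Cfsg Cfsg.Agent.Omega.KFacts Cfsg.Agent.Omega.Lie.CenTwo
open scoped Pointwise

universe u

theorem fx_of_lie {p : ℕ} (hp : p.Prime) {K : Type*} [Group K] [Finite K] [IsSimpleGroup K]
    (h : IsLieTypeChar p K) : Fx K :=
  have : Fact p.Prime := ⟨hp⟩
  fx_of_opp (H498.LieFree.oppTrans_of_lieChar hp h)

theorem fx_of_noCenMove {K : Type*} [Group K] [Finite K] (hc : Subgroup.center K = ⊥) (h2 : Even (Nat.card K))
    (h : NoCenMove K) : Fx K := by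
  intro φ
  have hp : Fact (Nat.Prime 2) := ⟨Nat.prime_two⟩
  let S : Sylow 2 K := default
  obtain ⟨g, hg⟩ := MulAction.exists_smul_eq K (φ • S) S
  refine Ev.of_conj_mul (g := g) ?_
  by_cases hodd : Even (orderOf (MulAut.conj g * φ))
  · exact ev_of_even hodd
  · rw [Nat.not_even_iff_odd] at hodd
    have hS : (MulAut.conj g * φ) • S = S := by rw [mul_smul]; exact hg
    have hmem : ∀ x ∈ S, (MulAut.conj g * φ) x ∈ S := by
      intro x hx
      have h1 : (MulAut.conj g * φ) • x ∈ (MulAut.conj g * φ) • (S : Subgroup K) :=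
        Subgroup.smul_mem_pointwise_smul _ _ _ hx
      rw [← Sylow.pointwise_smul_def, hS] at h1
      exact h1
    -- an involution of the centre of `S`
    have hne : Nontrivial S := by
      rw [← Finite.one_lt_card_iff_nontrivial]
      have h3 : 2 ^ 1 ∣ Nat.card S := S.pow_dvd_card_of_pow_dvd_card (by rw [pow_one]; exact even_iff_two_dvd.1 h2)
      rw [pow_one] at h3
      have := Nat.le_of_dvd Nat.card_pos h3
      omega
    have hcn : Nontrivial (Subgroup.center S) := S.isPGroup'.center_nontrivial
    have h4 : 2 ∣ Nat.card (Subgroup.center S) := by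
      obtain ⟨n, hn⟩ := (IsPGroup.iff_card (p := 2)).1 (S.isPGroup'.to_subgroup (Subgroup.center S))
      rw [hn]
      refine dvd_pow_self 2 ?_
      rintro rfl
      rw [pow_zero] at hn
      have := Finite.one_lt_card_iff_nontrivial.2 hcn
      omega
    obtain ⟨t, ht⟩ := exists_prime_orderOf_dvd_card' 2 h4
    have ht2 : orderOf ((t : S) : K) = 2 := by
      rw [Subgroup.orderOf_coe, Subgroup.orderOf_coe, ht]
    refine ev_of_fixed hc _ ((t : S) : K) (by rw [ht2]; exact even_two) ?_
    refine h S _ hodd hmem _ (t : S).2 ?_ ?_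
    · intro x hx
      have := Subgroup.mem_center_iff.1 t.2 ⟨x, hx⟩
      exact congrArg Subtype.val this
    · rw [← pow_two]
      exact orderOf_dvd_iff_pow_eq_one.1 (by rw [ht2])

theorem fx_of_all_inner {K : Type*} [Group K] [Finite K] (hc : Subgroup.center K = ⊥) (h2 : Even (Nat.card K))
    (h : ∀ φ : MulAut K, ∃ k : K, φ = MulAut.conj k) : Fx K := by
  intro φ
  obtain ⟨k, rfl⟩ := h φ
  exact ev_of_inner hc h2 k

theorem center_bot_of_simple {K : Type*} [Group K] [IsSimpleGroup K] (hna : ¬ IsMulCommutative K) :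
    Subgroup.center K = ⊥ := by
  rcases (inferInstance : (Subgroup.center K).Normal).eq_bot_or_eq_top with h3 | h3
  · exact h3
  · exfalso
    apply hna
    refine ⟨⟨fun a b => ?_⟩⟩
    have h4 : b ∈ Subgroup.center K := by rw [h3]; trivial
    exact Subgroup.mem_center_iff.1 h4 a

theorem even_card_of_simple {K : Type*} [Group K] [Finite K] [IsSimpleGroup K] (hna : ¬ IsMulCommutative K) :
    Even (Nat.card K) := by
  by_contra h
  have h1 : Group.IsSolvable K := S0205.result (Nat.not_even_iff_odd.1 h)
  exact hna (isMulCommutative_iff.2 fun a b => ((IsSimpleGroup.comm_iff_isSolvable (G := K)).2 h1) a b)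

/-- **Cosets of inner automorphisms of the known simple groups contain elements of even order.** -/
theorem fx_known {K : Type u} [Group K] [Finite K] [IsSimpleGroup K] (hna : ¬ IsMulCommutative K)
    (h : IsKnownSimple' K) : Fx K := by
  have hc := center_bot_of_simple hna
  have h2 := even_card_of_simple hna
  have hpc : ¬ IsPrimeCyclic K := by
    intro h1
    have : Fact (Nat.card K).Prime := ⟨h1⟩
    exact hna (by
      have : IsCyclic K := isCyclic_of_prime_card rfl
      exact IsCyclic.isMulCommutative)
  rcases zs_known h hpc with h1 | h1 | h1 | h1 | h1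
  · exact fx_of_lie Nat.prime_two h1
  · exact fx_of_noCenMove hc h2 h1
  · obtain ⟨F, i1, i2, -, h11, he⟩ := h1
    let p := ringChar F
    have hp : p.Prime := CharP.char_is_prime F p
    exact fx_of_lie hp (Or.inl ⟨F, i1, i2, inferInstance, 2, le_rfl, fun _ => by omega, he⟩)
  · obtain ⟨e⟩ := h1
    have hf : Finite Spor.J1 := Finite.of_equiv _ e.toEquiv
    have hs : IsSimpleGroup Spor.J1 := e.symm.isSimpleGroup
    have hna' : ¬ IsMulCommutative Spor.J1 := fun h3 => hna (isMulCommutative_iff.2 fun a b =>
      e.injective (by rw [map_mul, map_mul]; exact (isMulCommutative_iff.1 h3) _ _))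
    exact (fx_of_all_inner (center_bot_of_simple hna') (even_card_of_simple hna')
      Cfsg.Agent.OddHalf.D4.Spor.J1Out.inn).of_equiv e.symm
  · exact fx_of_lie Nat.prime_three (Or.inr (Or.inr (Or.inr (Or.inr (Or.inr (Or.inr (Or.inr (Or.inr (Or.inr (Or.inr
      ⟨rfl, h1⟩))))))))))

end Cfsg.Agent.H487.EvenCoset
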