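import Cfsg.Agent.H487.FxBasic
import Cfsg.Agent.H498.SplitOpp

/-!
# Cosets of inner automorphisms containing elements of even order: groups with opposite Sylow subgroups
-/

set_option autoImplicit false

namespace Cfsg.Agent.H487.EvenCoset

open Cfsg.Agent.H498.SplitOpp

/-- **Groups with a transitive family of opposite pairs of Sylow subgroups**: some element of `Inn(K) φ` swaps two
opposite Sylow subgroups. -/
theorem fx_of_opp {K : Type*} [Group K] [Finite K] {p : ℕ} [Fact p.Prime] (h : OppTrans p K) : Fx K := by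
  obtain ⟨P, Q, hPQ, hP, htr⟩ := h
  intro φ
  have h1 : ((φ • Q : Sylow p K) : Subgroup K) ⊓ ((φ • P : Sylow p K) : Subgroup K) = ⊥ := by
    rw [Sylow.pointwise_smul_def, Sylow.pointwise_smul_def, ← Subgroup.smul_inf, inf_comm, hPQ, Subgroup.smul_bot]
  obtain ⟨g, hg1, hg2⟩ := htr _ _ h1
  refine ⟨g⁻¹, ?_⟩
  by_contra hodd
  rw [Nat.not_even_iff_odd] at hodd
  have hψP : (MulAut.conj g⁻¹ * φ) • P = Q := by
    rw [mul_smul, ← hg2, map_inv]
    exact inv_smul_smul _ _
  have hψQ : (MulAut.conj g⁻¹ * φ) • Q = P := by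
    rw [mul_smul, ← hg1, map_inv]
    exact inv_smul_smul _ _
  have h2 : ∀ k : ℕ, (MulAut.conj g⁻¹ * φ) ^ (2 * k + 1) • P = Q := by
    intro k
    induction k with
    | zero => rw [mul_zero, zero_add, pow_one, hψP]
    | succ k ih =>
      rw [show 2 * (k + 1) + 1 = (2 * k + 1) + 1 + 1 by ring, pow_succ, pow_succ, mul_assoc, mul_smul, mul_smul,
        hψP, hψQ, ih]
  obtain ⟨k, hk⟩ := hodd
  have h3 := h2 k
  rw [← hk, pow_orderOf_eq_one, one_smul] at h3
  rw [h3, inf_idem] at hPQ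
  exact hP (by rw [h3]; exact hPQ)

end Cfsg.Agent.H487.EvenCoset
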