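import Mathlib.GroupTheory.FiniteAbelian.Duality
import Mathlib.RingTheory.RootsOfUnity.AlgebraicallyClosed
import Mathlib.Analysis.Complex.Polynomial.Basic

/-!
# Finite abelian groups: quotients are subgroups
-/

set_option autoImplicit false

universe u v w

namespace Cfsg.Agent.H487

open Function

/-- A quotient of a finite abelian group is isomorphic to a subgroup. -/
theorem exists_injective_of_surjective {B : Type u} {X : Type v} [CommGroup B] [CommGroup X]
    [Finite B] (f : B →* X) (hf : Surjective f) : ∃ g : X →* B, Injective g := by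
  have : Finite X := Finite.of_surjective f hf
  have : NeZero (Monoid.exponent B) := ⟨Monoid.exponent_ne_zero_of_finite⟩
  have : NeZero (Monoid.exponent X) := ⟨Monoid.exponent_ne_zero_of_finite⟩
  have : NeZero ((Monoid.exponent B : ℕ) : ℂ) := ⟨by exact_mod_cast NeZero.ne (Monoid.exponent B)⟩
  have : NeZero ((Monoid.exponent X : ℕ) : ℂ) := ⟨by exact_mod_cast NeZero.ne (Monoid.exponent X)⟩
  obtain ⟨eB⟩ := CommGroup.monoidHom_mulEquiv_of_hasEnoughRootsOfUnity B ℂ
  obtain ⟨eX⟩ := CommGroup.monoidHom_mulEquiv_of_hasEnoughRootsOfUnity X ℂ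
  let d : (X →* ℂˣ) →* (B →* ℂˣ) :=
    { toFun := fun χ => χ.comp f
      map_one' := by ext; simp
      map_mul' := by intro a b; ext; simp }
  have hd : Injective d := by
    intro a b hab
    ext x
    obtain ⟨y, rfl⟩ := hf x
    exact congrArg Units.val (DFunLike.congr_fun hab y)
  exact ⟨(eB.toMonoidHom.comp d).comp eX.symm.toMonoidHom,
    (eB.injective.comp hd).comp eX.symm.injective⟩

/-- A subgroup of a quotient of a finite abelian group is isomorphic to a subgroup. -/
theorem exists_subgroup_of_surjective_of_injective {B : Type u} {X : Type v} {Y : Type w}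
    [CommGroup B] [CommGroup X] [Group Y] [Finite B] (f : B →* X) (hf : Surjective f)
    (i : Y →* X) (hi : Injective i) : ∃ C : Subgroup B, Nonempty (Y ≃* C) := by
  obtain ⟨g, hg⟩ := exists_injective_of_surjective f hf
  exact ⟨(g.comp i).range, ⟨MonoidHom.ofInjective (hg.comp hi)⟩⟩

end Cfsg.Agent.H487
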